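import Groth.Prelude.Def_W4c4chowquasisplitPn
import Mathlib

set_option autoImplicit false
set_option maxHeartbeats 400000

/-!
# The truncated algebra over the field with two elements: the relations hold
-/

open MvPolynomial

namespace Groth.Agent.H98QsPn

open QsChow

variable {n : ℕ}

lemma klog_spec {j : ℕ} (hn : 2 ≤ n) (hj : 2 ≤ j) (hjs : j ≤ numVars n) :
    (2 * j - 3) * 2 ^ klog n j ≤ 2 * n - 1 ∧ 2 * n - 1 < (2 * j - 3) * 2 ^ (klog n j + 1) ∧
      1 ≤ klog n j := by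
  unfold numVars at hjs
  have hd : 0 < 2 * j - 3 := by omega
  have h2 : 2 ≤ (2 * n - 1) / (2 * j - 3) := by
    rw [Nat.le_div_iff_mul_le hd]; omega
  refine ⟨?_, ?_, ?_⟩
  · have h := Nat.pow_log_le_self 2 (show (2 * n - 1) / (2 * j - 3) ≠ 0 by omega)
    rw [Nat.mul_comm (2 * j - 3)]
    exact (Nat.le_div_iff_mul_le hd).mp h
  · have h := Nat.lt_pow_succ_log_self (show 1 < 2 by norm_num) ((2 * n - 1) / (2 * j - 3))
    rw [Nat.mul_comm (2 * j - 3)]
    exact (Nat.div_lt_iff_lt_mul hd).mp h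
  · exact Nat.log_pos (by norm_num) h2

lemma le_mul_two_pow {j : ℕ} (hn : 2 ≤ n) (hj : 2 ≤ j) (hjs : j ≤ numVars n) :
    n ≤ (2 * j - 3) * 2 ^ klog n j := by
  obtain ⟨-, h, -⟩ := klog_spec hn hj hjs
  rw [pow_succ, ← mul_assoc] at h
  omega

lemma two_le_numVars (hn : 2 ≤ n) : 2 ≤ numVars n := by unfold numVars; omega

/-- The first index. -/
def i0 (hn : 2 ≤ n) : Fin (numVars n) := ⟨0, by have := two_le_numVars hn; omega⟩

/-- The second index. -/
def i1 (hn : 2 ≤ n) : Fin (numVars n) := ⟨1, by have := two_le_numVars hn; omega⟩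

lemma eps_succ (i : Fin (numVars n)) :
    eps n (i.val + 1) = Ideal.Quotient.mk (truncIdeal n) (X i) := by
  rw [eps, dif_pos ⟨Nat.succ_pos _, i.2⟩]
  rfl

lemma evar_succ (i : Fin (numVars n)) : evar n (i.val + 1) = X (some i) := by
  rw [evar, dif_pos ⟨Nat.succ_pos _, i.2⟩]
  rfl

lemma eps_pow_bound (i : Fin (numVars n)) : eps n (i.val + 1) ^ bound n i = 0 := by
  rw [eps_succ, ← map_pow, Ideal.Quotient.eq_zero_iff_mem]
  exact Ideal.subset_span ⟨i, rfl⟩

lemma eps1_pow_n (hn : 2 ≤ n) : eps n 1 ^ n = 0 := by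
  simpa [bound, i0] using eps_pow_bound (i0 hn)

lemma eps1_pow_eq_zero (hn : 2 ≤ n) {m : ℕ} (hm : n ≤ m) : eps n 1 ^ m = 0 :=
  pow_eq_zero_of_le hm (eps1_pow_n hn)

lemma eps_pow_klog {j : ℕ} (hj : 2 ≤ j) (hjs : j ≤ numVars n) : eps n j ^ 2 ^ klog n j = 0 := by
  obtain ⟨i, rfl⟩ : ∃ i, j = i + 1 := ⟨j - 1, by omega⟩
  have h := eps_pow_bound (⟨i, by omega⟩ : Fin (numVars n))
  simp only [bound] at h
  rwa [if_neg (by omega)] at h

lemma two_eq_zero : (2 : P n) = 0 := by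
  have h : algebraMap (ZMod 2) (P n) 2 = algebraMap (ZMod 2) (P n) 0 :=
    congrArg _ (by decide)
  rwa [map_ofNat, map_zero] at h

lemma add_self (a : P n) : a + a = 0 := by
  rw [← two_mul, two_eq_zero, zero_mul]

lemma add_sq' (a b : P n) : (a + b) ^ 2 = a ^ 2 + b ^ 2 := by
  linear_combination a * b * two_eq_zero (n := n)

lemma sq_sum' {ι : Type*} (s : Finset ι) (f : ι → P n) : (∑ i ∈ s, f i) ^ 2 = ∑ i ∈ s, f i ^ 2 := by
  classical
  induction s using Finset.induction with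
  | empty => simp
  | insert a s ha ih => rw [Finset.sum_insert ha, Finset.sum_insert ha, add_sq', ih]

lemma add_pow_two_pow (a b : P n) : ∀ k, (a + b) ^ 2 ^ k = a ^ 2 ^ k + b ^ 2 ^ k
  | 0 => by simp
  | k + 1 => by rw [pow_succ, pow_mul, add_pow_two_pow a b k, add_sq', ← pow_mul, ← pow_mul]

lemma eq_of_add_eq_zero {a b : P n} (h : a + b = 0) : a = b := by
  linear_combination h - add_self b

/-- The element `u = ε₂² + ε₁ ε₂`. -/
noncomputable def uu (n : ℕ) : P n := eps n 2 ^ 2 + eps n 1 * eps n 2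

/-- The sum `S_k`. -/
noncomputable def sVal (n k : ℕ) : P n :=
  ∑ t ∈ Finset.range k, eps n 1 ^ (2 ^ k - 2 ^ (t + 1)) * uu n ^ 2 ^ t

lemma eps2_pow_two_pow (k : ℕ) :
    eps n 2 ^ 2 ^ k = sVal n k + eps n 1 ^ (2 ^ k - 1) * eps n 2 := by
  induction k with
  | zero => simp [sVal]
  | succ k ih =>
    have hS : sVal n (k + 1) = sVal n k ^ 2 + eps n 1 ^ (2 ^ (k + 1) - 2) * uu n := by
      rw [sVal, Finset.sum_range_succ', sVal, sq_sum']
      congr 1
      · refine Finset.sum_congr rfl fun t _ => ?_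
        rw [mul_pow, ← pow_mul, ← pow_mul, ← pow_succ,
          show (2 ^ k - 2 ^ (t + 1)) * 2 = 2 ^ (k + 1) - 2 ^ (t + 1 + 1) by
            rw [Nat.sub_mul, ← pow_succ, ← pow_succ]]
      · simp
    have h2 : eps n 2 ^ 2 = uu n + eps n 1 * eps n 2 := by
      rw [uu, add_assoc, add_self, add_zero]
    have he : (2 ^ k - 1) * 2 = 2 ^ (k + 1) - 2 := by rw [Nat.sub_mul, ← pow_succ]
    have he' : 2 ^ (k + 1) - 1 = 2 ^ (k + 1) - 2 + 1 := by
      have : 2 ≤ 2 ^ (k + 1) := Nat.le_self_pow (by omega) 2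
      omega
    have hp : eps n 1 ^ (2 ^ (k + 1) - 1) = eps n 1 ^ (2 ^ (k + 1) - 2) * eps n 1 := by
      rw [he']; exact pow_succ _ _
    rw [show eps n 2 ^ 2 ^ (k + 1) = (eps n 2 ^ 2 ^ k) ^ 2 by rw [← pow_mul, ← pow_succ],
      ih, add_sq', mul_pow, ← pow_mul, he, h2, hS, hp]
    ring

lemma phi_evar1 (hn : 2 ≤ n) : phi n (evar n 1) = eps n 1 := by
  rw [show evar n 1 = X (some (i0 hn)) from evar_succ (i0 hn), phi, aeval_X]
  simp [genImage, i0]

lemma phi_evar2 (hn : 2 ≤ n) : phi n (evar n 2) = uu n := by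
  rw [show evar n 2 = X (some (i1 hn)) from evar_succ (i1 hn), phi, aeval_X]
  simp [genImage, i1, uu]

lemma phi_evar {j : ℕ} (hj : 3 ≤ j) (hjs : j ≤ numVars n) :
    phi n (evar n j) = eps n j + eps n 1 ^ (2 * j - 4) * eps n 2 := by
  obtain ⟨i, rfl⟩ : ∃ i, j = i + 1 := ⟨j - 1, by omega⟩
  rw [show evar n (i + 1) = X (some (⟨i, by omega⟩ : Fin (numVars n))) from evar_succ ⟨i, by omega⟩,
    phi, aeval_X]
  simp only [genImage]
  rw [if_neg (by omega), if_neg (by omega)]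

lemma phi_xvar : phi n (xvar n) = eps n 1 ^ (n - 1) * eps n 2 := by
  rw [xvar, phi, aeval_X]
  rfl

lemma phi_sPoly (hn : 2 ≤ n) (j : ℕ) : phi n (sPoly n j) = sVal n (klog n j) := by
  simp [sPoly, sVal, map_sum, phi_evar1 hn, phi_evar2 hn]

lemma phi_hrel (hn : 2 ≤ n) (j : ℕ) : phi n (hrel n j) = 0 := by
  unfold hrel
  split_ifs with h2 h3
  · subst h2
    have hb := le_mul_two_pow hn le_rfl (two_le_numVars hn)
    simp only [Nat.reduceMul, Nat.reduceSub, one_mul] at hb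
    rw [map_add, map_mul, map_pow, phi_evar1 hn, phi_xvar, phi_sPoly hn, ← mul_assoc, ← pow_add,
      show 2 ^ klog n 2 - n + (n - 1) = 2 ^ klog n 2 - 1 by omega, add_comm, ← eps2_pow_two_pow,
      eps_pow_klog le_rfl (two_le_numVars hn)]
  · obtain ⟨h3, hjs⟩ := h3
    have hb := le_mul_two_pow hn (by omega : 2 ≤ j) hjs
    simp only [map_add, map_mul, map_pow, phi_evar1 hn, phi_xvar, phi_sPoly hn, phi_evar h3 hjs]
    rw [add_pow_two_pow, eps_pow_klog (by omega) hjs, zero_add, mul_pow, ← pow_mul,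
      eps2_pow_two_pow, mul_add, ← mul_assoc, ← mul_assoc, ← pow_add, ← pow_add]
    have he : (2 * j - 4) * 2 ^ klog n j + (2 ^ klog n j - 1) =
        (2 * j - 3) * 2 ^ klog n j - n + (n - 1) := by
      have h1 : 1 ≤ 2 ^ klog n j := Nat.one_le_two_pow
      have h4 : (2 * j - 3) * 2 ^ klog n j = (2 * j - 4) * 2 ^ klog n j + 2 ^ klog n j := by
        rw [← Nat.succ_mul]; congr 1; omega
      omega
    rw [he]
    linear_combination add_self (eps n 1 ^ ((2 * j - 4) * 2 ^ klog n j) * sVal n (klog n j)) +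
      add_self (eps n 1 ^ ((2 * j - 3) * 2 ^ klog n j - n + (n - 1)) * eps n 2)
  · exact map_zero _

lemma presIdeal_le_ker (hn : 2 ≤ n) : presIdeal n ≤ RingHom.ker (phi n) := by
  refine Ideal.span_le.mpr ?_
  rintro q ((rfl | rfl | rfl) | ⟨i, rfl⟩) <;> show phi n _ = 0
  · rw [map_pow, phi_evar1 hn, eps1_pow_n hn]
  · rw [map_mul, phi_evar1 hn, phi_xvar, ← mul_assoc, ← pow_succ',
      eps1_pow_eq_zero hn (by omega), zero_mul]
  · rw [map_pow, phi_xvar, mul_pow, ← pow_mul, eps1_pow_eq_zero hn (by omega), zero_mul]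
  · exact phi_hrel hn _

variable (τ : P n →ₐ[ZMod 2] P n)

lemma tau_phi (hn : 2 ≤ n) (hτ1 : τ (eps n 1) = eps n 1)
    (hτ : ∀ j : ℕ, 2 ≤ j → j ≤ numVars n → τ (eps n j) = eps n j + eps n 1 ^ (2 * j - 3))
    (q : FreeE n) : τ (phi n q) = phi n q := by
  have h2 : τ (eps n 2) = eps n 2 + eps n 1 := by simpa using hτ 2 le_rfl (two_le_numVars hn)
  suffices τ.comp (phi n) = phi n from DFunLike.congr_fun this q
  refine algHom_ext fun o => ?_
  rw [AlgHom.comp_apply]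
  rcases o with _ | i
  · rw [show (X none : FreeE n) = xvar n from rfl, phi_xvar, map_mul, map_pow, hτ1, h2, mul_add,
      ← pow_succ, eps1_pow_eq_zero (m := n - 1 + 1) hn (by omega), add_zero]
  · rcases lt_or_ge i.val 2 with h | h
    · rcases (show i.val = 0 ∨ i.val = 1 by omega) with h0 | h0
      · rw [← evar_succ, h0, zero_add, phi_evar1 hn, hτ1]
      · rw [← evar_succ, h0, phi_evar2 hn, uu, map_add, map_pow, map_mul, hτ1, h2, add_sq', mul_add]
        linear_combination add_self (eps n 1 ^ 2)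
    · rw [← evar_succ, phi_evar (by omega) i.2, map_add, map_mul, map_pow, hτ1, h2,
        hτ _ (by omega) i.2, mul_add, ← pow_succ,
        show 2 * (i.val + 1) - 4 + 1 = 2 * (i.val + 1) - 3 by omega]
      linear_combination add_self (eps n 1 ^ (2 * (i.val + 1) - 3))

end Groth.Agent.H98QsPn
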