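import Groth.Agent.H98QsPn.Normal

set_option autoImplicit false
set_option maxHeartbeats 400000

/-!
# A basis of the truncated algebra adapted to the involution
-/

open MvPolynomial

namespace Groth.Agent.H98QsPn

open QsChow

variable {n : ℕ}

/-- The exponents below the truncation bounds. -/
abbrev En (n : ℕ) : Type := ∀ i : Fin (numVars n), Fin (bound n i)

/-- The Finsupp of an exponent vector. -/
noncomputable def toFinsupp (d : En n) : Fin (numVars n) →₀ ℕ :=
  Finsupp.equivFunOnFinite.symm fun i => (d i).val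

lemma toFinsupp_injective : Function.Injective (toFinsupp (n := n)) := fun a b h =>
  funext fun i => Fin.ext (congrFun (Finsupp.equivFunOnFinite.symm.injective h) i)

lemma linearIndependent_monomials : LinearIndependent (ZMod 2)
    fun d : En n => Ideal.Quotient.mk (truncIdeal n) (monomial (toFinsupp d) 1) := by
  classical
  rw [Fintype.linearIndependent_iff]
  intro g hg d
  have hmem : (∑ e, monomial (toFinsupp e) (g e)) ∈ truncIdeal n := by
    rw [← Ideal.Quotient.eq_zero_iff_mem, map_sum, ← hg]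
    refine Finset.sum_congr rfl fun e _ => ?_
    rw [← Ideal.Quotient.mkₐ_eq_mk (ZMod 2), ← map_smul, smul_monomial, smul_eq_mul, mul_one]
  by_contra hne
  have hco : coeff (toFinsupp d) (∑ e, monomial (toFinsupp e) (g e)) = g d := by
    rw [coeff_sum, Finset.sum_eq_single d (fun e _ he => ?_) (by simp)]
    · simp
    · rw [coeff_monomial, if_neg fun h => he (toFinsupp_injective h)]
  have hspan : truncIdeal n = Ideal.span ((fun s => monomial s (1 : ZMod 2)) ''
      Set.range fun i : Fin (numVars n) => Finsupp.single i (bound n i)) := by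
    rw [truncIdeal, ← Set.range_comp]
    congr 2
    funext i
    simp [X_pow_eq_monomial]
  rw [hspan, mem_ideal_span_monomial_image] at hmem
  obtain ⟨_, ⟨i, rfl⟩, hle⟩ := hmem (toFinsupp d) (by rw [mem_support_iff, hco]; exact hne)
  have h := hle i
  simp [toFinsupp] at h
  exact absurd (d i).2 (not_lt.mpr h)

lemma card_En (hn : 2 ≤ n) : Fintype.card (En n) = 2 * Fintype.card (Dn n) := by
  simp only [Fintype.card_pi, Fintype.card_fin]
  rw [← Finset.mul_prod_erase _ _ (Finset.mem_univ (i1 hn)),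
    ← Finset.mul_prod_erase _ (nb n) (Finset.mem_univ (i1 hn)), ← mul_assoc]
  congr 1
  · have h : 1 ≤ klog n 2 := (klog_spec hn le_rfl (two_le_numVars hn)).2.2
    simp only [bound, nb, i1]
    simp only [if_true, one_ne_zero, if_false]
    rw [← pow_succ']
    congr 1
    show klog n 2 = _
    omega
  · refine Finset.prod_congr rfl fun i hi => ?_
    have hne : i.val ≠ 1 := fun h => Finset.ne_of_mem_erase hi (Fin.ext h)
    simp only [bound, nb, if_neg hne]

lemma phi_xvar_mul_eps2 (hn : 2 ≤ n) :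
    phi n (xvar n) * eps n 2 = phi n (evar n 1 ^ (n - 1) * evar n 2) := by
  rw [phi_xvar, map_mul, map_pow, phi_evar1 hn, phi_evar2 hn, uu, mul_assoc, mul_add, ← mul_assoc,
    ← mul_assoc, ← pow_succ (eps n 1), eps1_pow_eq_zero (m := n - 1 + 1) hn (by omega), zero_mul,
    add_zero, mul_assoc, ← pow_two]

/-- Every element is `φ a + φ b · ε₂`. -/
lemma exists_decomp (hn : 2 ≤ n) (y : P n) : ∃ a b, y = phi n a + phi n b * eps n 2 := by
  obtain ⟨p, rfl⟩ := Ideal.Quotient.mk_surjective y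
  induction p using MvPolynomial.induction_on with
  | C r => exact ⟨C r, 0, by rw [map_zero, zero_mul, add_zero, phi, aeval_C]; rfl⟩
  | add p q hp hq =>
    obtain ⟨a, b, ha⟩ := hp
    obtain ⟨c, d, hc⟩ := hq
    refine ⟨a + c, b + d, ?_⟩
    rw [map_add, ha, hc, map_add, map_add]; ring
  | mul_X p i hp =>
    obtain ⟨a, b, ha⟩ := hp
    have h2 : eps n 2 ^ 2 = phi n (evar n 2) + eps n 1 * eps n 2 := by
      rw [phi_evar2 hn, uu, add_assoc, add_self, add_zero]
    rw [map_mul, ha, ← eps_succ]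
    rcases (show i.val = 0 ∨ i.val = 1 ∨ 3 ≤ i.val + 1 by omega) with h | h | h
    · refine ⟨a * evar n 1, b * evar n 1, ?_⟩
      rw [h, map_mul, map_mul, phi_evar1 hn]; ring
    · refine ⟨b * evar n 2, a + b * evar n 1, ?_⟩
      rw [h, map_add, map_mul, map_mul, phi_evar1 hn]
      show (phi n a + phi n b * eps n 2) * eps n 2 = _
      linear_combination phi n b * h2
    · let e := evar n 1 ^ (2 * (i.val + 1) - 4)
      refine ⟨a * evar n (i.val + 1) + b * e * evar n 2,
        a * e + b * evar n (i.val + 1) + b * e * evar n 1, ?_⟩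
      have hei : eps n (i.val + 1) = phi n (evar n (i.val + 1)) + phi n e * eps n 2 := by
        rw [phi_evar h i.2, map_pow, phi_evar1 hn, add_assoc, add_self, add_zero]
      rw [hei]
      simp only [map_add, map_mul, phi_evar1 hn]
      linear_combination phi n b * phi n e * h2

/-- The candidate basis. -/
noncomputable def G (n : ℕ) : Dn n ⊕ Dn n → P n :=
  Sum.elim (fun d => phi n (M d)) (fun d => phi n (M d) * eps n 2)

/-- The span of the images of normal monomials. -/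
noncomputable def Mp (n : ℕ) : Submodule (ZMod 2) (P n) :=
  Submodule.span (ZMod 2) (Set.range fun d : Dn n => phi n (M d))

lemma phi_comb_mem (c : Dn n → ZMod 2) : phi n (comb c) ∈ Mp n := by
  rw [comb, map_sum]
  exact Submodule.sum_mem _ fun d _ => by
    rw [map_smul]; exact Submodule.smul_mem _ _ (Submodule.subset_span ⟨d, rfl⟩)

lemma phi_eq_of_sub_mem (hn : 2 ≤ n) {p q : FreeE n} (h : p - q ∈ presIdeal n) :
    phi n p = phi n q := sub_eq_zero.mp ((map_sub (phi n) p q).symm.trans (presIdeal_le_ker hn h))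

/-- Shift of the first exponent. -/
def setFirst (hn : 2 ≤ n) (d : Dn n) (v : ℕ) (hv : v < n) : Dn n :=
  Function.update d (i0 hn) ⟨v, lt_of_lt_of_le hv (le_of_eq (if_pos (show (i0 hn).val = 0 from rfl)).symm)⟩

lemma M_setFirst (hn : 2 ≤ n) (d : Dn n) (v : ℕ) (hv : v < n) :
    M (setFirst hn d v hv) = evar n 1 ^ v * mon (Function.update (fun i => (d i).val) (i0 hn) 0) := by
  rw [M, mon_update _ (i0 hn), show evar n 1 = X (some (i0 hn)) from evar_succ (i0 hn)]
  rw [show (setFirst hn d v hv (i0 hn)).val = v by simp [setFirst]]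
  congr 2
  funext i
  by_cases hi : i = i0 hn
  · subst hi; simp
  · simp [setFirst, Function.update_of_ne hi]


lemma M_eq (hn : 2 ≤ n) (d : Dn n) :
    M d = evar n 1 ^ (d (i0 hn)).val * mon (Function.update (fun i => (d i).val) (i0 hn) 0) := by
  rw [M, mon_update _ (i0 hn), show evar n 1 = X (some (i0 hn)) from evar_succ (i0 hn)]

lemma pow_mul_mem_Mp (hn : 2 ≤ n) (m : ℕ) {p : P n} (hp : p ∈ Mp n) : eps n 1 ^ m * p ∈ Mp n := by
  have : Mp n ≤ (Mp n).comap (LinearMap.mulLeft (ZMod 2) (eps n 1 ^ m)) := by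
    refine Submodule.span_le.mpr ?_
    rintro _ ⟨d, rfl⟩
    show eps n 1 ^ m * phi n (M d) ∈ Mp n
    by_cases h : m + (d (i0 hn)).val < n
    · refine Submodule.subset_span ⟨setFirst hn d _ h, ?_⟩
      show phi n _ = _
      rw [M_setFirst, M_eq hn d, map_mul, map_mul, map_pow, map_pow, phi_evar1 hn, pow_add, mul_assoc]
    · rw [M_eq hn d, map_mul, map_pow, phi_evar1 hn, ← mul_assoc, ← pow_add,
        eps1_pow_eq_zero hn (by omega), zero_mul]
      exact zero_mem _
  exact this hp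

/-- `φ q` is a normal part plus a multiple of `ε₁^(n-1) ε₂`. -/
lemma phi_eq (hn : 2 ≤ n) (q : FreeE n) : ∃ c c' : Dn n → ZMod 2,
    q - (comb c + xvar n * comb c') ∈ presIdeal n ∧
      phi n q = phi n (comb c) + eps n 1 ^ (n - 1) * phi n (comb c') * eps n 2 := by
  obtain ⟨c, c', h⟩ := exists_normal hn q
  refine ⟨c, c', h, ?_⟩
  rw [phi_eq_of_sub_mem hn h, map_add, map_mul, phi_xvar]; ring

lemma span_G (hn : 2 ≤ n) : ⊤ ≤ Submodule.span (ZMod 2) (Set.range (G n)) := by
  let W := Submodule.span (ZMod 2) (Set.range (G n))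
  have h1 : ∀ p ∈ Mp n, p ∈ W := fun p hp =>
    Submodule.span_mono (by rintro _ ⟨d, rfl⟩; exact ⟨Sum.inl d, rfl⟩) hp
  have h2 : ∀ p ∈ Mp n, p * eps n 2 ∈ W := fun p hp => by
    have : Mp n ≤ W.comap (LinearMap.mulRight (ZMod 2) (eps n 2)) :=
      Submodule.span_le.mpr (by rintro _ ⟨d, rfl⟩; exact Submodule.subset_span ⟨Sum.inr d, rfl⟩)
    exact this hp
  have h3 : ∀ q, phi n q ∈ W := fun q => by
    obtain ⟨c, c', -, e⟩ := phi_eq hn q
    rw [e]
    exact add_mem (h1 _ (phi_comb_mem c)) (h2 _ (pow_mul_mem_Mp hn _ (phi_comb_mem c')))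
  have h4 : ∀ q, phi n q * eps n 2 ∈ W := fun q => by
    obtain ⟨c, c', h⟩ := exists_normal hn q
    rw [phi_eq_of_sub_mem hn h, map_add, add_mul, map_mul (phi n) (xvar n), mul_right_comm,
      phi_xvar_mul_eps2 hn, ← map_mul]
    exact add_mem (h2 _ (phi_comb_mem c)) (h3 _)
  intro y _
  obtain ⟨a, b, rfl⟩ := exists_decomp hn y
  exact add_mem (h3 a) (h4 b)

lemma linearIndependent_G (hn : 2 ≤ n) : LinearIndependent (ZMod 2) (G n) := by
  have : Module.Finite (ZMod 2) (P n) :=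
    ⟨Submodule.fg_def.mpr ⟨_, Set.finite_range (G n), top_le_iff.mp (span_G hn)⟩⟩
  refine linearIndependent_of_top_le_span_of_card_eq_finrank (span_G hn) (le_antisymm ?_ ?_)
  · refine le_trans ?_ linearIndependent_monomials.fintype_card_le_finrank
    rw [card_En hn, Fintype.card_sum]
    omega
  · rw [← finrank_top (ZMod 2) (P n), ← top_le_iff.mp (span_G hn)]
    exact finrank_range_le_card (R := ZMod 2) (G n)

lemma disjoint_Mp (hn : 2 ≤ n) {p q : P n} (hp : p ∈ Mp n) (hq : q ∈ Mp n)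
    (h : p + q * eps n 2 = 0) : p = 0 ∧ q = 0 := by
  obtain ⟨c, rfl⟩ := (Submodule.mem_span_range_iff_exists_fun (ZMod 2)).mp hp
  obtain ⟨c', rfl⟩ := (Submodule.mem_span_range_iff_exists_fun (ZMod 2)).mp hq
  have h0 := Fintype.linearIndependent_iff.mp (linearIndependent_G hn) (Sum.elim c c') (by
    rw [Fintype.sum_sum_type, ← h, Finset.sum_mul]
    simp [G, smul_mul_assoc])
  exact ⟨Finset.sum_eq_zero fun d _ => by rw [show c d = 0 from h0 (Sum.inl d), zero_smul],
    Finset.sum_eq_zero fun d _ => by rw [show c' d = 0 from h0 (Sum.inr d), zero_smul]⟩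

lemma comb_coeff_zero (hn : 2 ≤ n) {c : Dn n → ZMod 2} (h : phi n (comb c) = 0) (d : Dn n) :
    c d = 0 := by
  have hli := (linearIndependent_G hn).comp Sum.inl Sum.inl_injective
  refine Fintype.linearIndependent_iff.mp hli c ?_ d
  rw [← h, comb, map_sum]
  exact Finset.sum_congr rfl fun d _ => by rw [map_smul]; rfl

lemma shift_coeff_zero (hn : 2 ≤ n) (m : ℕ) {c : Dn n → ZMod 2}
    (h : eps n 1 ^ m * phi n (comb c) = 0) (d : Dn n) (hd : m + (d (i0 hn)).val < n) : c d = 0 := by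
  classical
  let S : Finset (Dn n) := Finset.univ.filter fun d => m + (d (i0 hn)).val < n
  let σ : S → Dn n := fun e => setFirst hn e.1 (m + (e.1 (i0 hn)).val) (Finset.mem_filter.mp e.2).2
  have hσ : Function.Injective σ := by
    intro a b hab
    refine Subtype.ext (funext fun i => Fin.ext ?_)
    by_cases hi : i = i0 hn
    · subst hi
      have := congrArg Fin.val (congrFun hab (i0 hn))
      simp [σ, setFirst] at this
      exact this
    · simpa [σ, setFirst, Function.update_of_ne hi] using congrArg Fin.val (congrFun hab i)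
  have hterm : ∀ e : Dn n, e ∉ S → eps n 1 ^ m * phi n (M e) = 0 := fun e he => by
    have : ¬ m + (e (i0 hn)).val < n := fun h' => he (Finset.mem_filter.mpr ⟨Finset.mem_univ _, h'⟩)
    rw [M_eq hn e, map_mul, map_pow, phi_evar1 hn, ← mul_assoc, ← pow_add,
      eps1_pow_eq_zero hn (by omega), zero_mul]
  have hli := (linearIndependent_G hn).comp (Sum.inl ∘ σ) (Sum.inl_injective.comp hσ)
  refine Fintype.linearIndependent_iff.mp hli (fun e => c e.1) ?_ ⟨d, Finset.mem_filter.mpr ⟨Finset.mem_univ _, hd⟩⟩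
  rw [← h, comb, map_sum, Finset.mul_sum,
    ← Finset.sum_subset (Finset.subset_univ S) fun e _ he => by
      rw [map_smul, mul_smul_comm, hterm e he, smul_zero], ← Finset.sum_coe_sort S]
  refine Finset.sum_congr rfl fun e _ => ?_
  rw [map_smul, mul_smul_comm]
  congr 1
  show phi n (M (σ e)) = _
  rw [M_setFirst, M_eq hn e.1, map_mul, map_mul, map_pow, map_pow, phi_evar1 hn, pow_add, mul_assoc]

/-- Annihilated normal combinations are multiples of the top power of the first variable. -/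
lemma exists_top_mul (hn : 2 ≤ n) (m : ℕ) (hm : m ≤ n) (c : Dn n → ZMod 2)
    (h : ∀ d : Dn n, (d (i0 hn)).val < m → c d = 0) : ∃ r, comb c = evar n 1 ^ m * r := by
  classical
  refine ⟨∑ d, c d • (evar n 1 ^ ((d (i0 hn)).val - m) * mon (Function.update (fun i => (d i).val) (i0 hn) 0)), ?_⟩
  rw [comb, Finset.mul_sum]
  refine Finset.sum_congr rfl fun d _ => ?_
  rcases lt_or_ge (d (i0 hn)).val m with hd | hd
  · rw [h d hd, zero_smul, zero_smul, mul_zero]
  · rw [mul_smul_comm, ← mul_assoc, ← pow_add, Nat.add_sub_cancel' hd, ← M_eq hn d]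

lemma ker_phi (hn : 2 ≤ n) : RingHom.ker (phi n) = presIdeal n := by
  refine le_antisymm (fun q hq => ?_) (presIdeal_le_ker hn)
  obtain ⟨c, c', hmem, e⟩ := phi_eq hn q
  rw [show phi n q = 0 from hq] at e
  obtain ⟨h1, h2⟩ := disjoint_Mp hn (phi_comb_mem c) (pow_mul_mem_Mp hn _ (phi_comb_mem c')) e.symm
  have hc : c = 0 := funext fun d => comb_coeff_zero hn h1 d
  obtain ⟨r, hr⟩ := exists_top_mul hn 1 (by omega) c'
    fun d hd => shift_coeff_zero hn _ h2 d (by omega)
  have hxb : xvar n * comb c' ∈ presIdeal n := by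
    rw [hr, pow_one, ← mul_assoc, mul_comm (xvar n)]
    exact Ideal.mul_mem_right _ _ (Ideal.subset_span (Or.inl (by simp)))
  have hc0 : comb c = 0 := by simp [comb, hc]
  rw [hc0, zero_add] at hmem
  simpa using add_mem hmem hxb

/-- If `ε₁ φ b = 0` then `φ b · ε₂` is in the range of `φ`. -/
lemma mul_eps2_mem_range (hn : 2 ≤ n) {b : FreeE n} (h : eps n 1 * phi n b = 0) :
    phi n b * eps n 2 ∈ Set.range (phi n) := by
  obtain ⟨c, c', hmem⟩ := exists_normal hn b
  rw [phi_eq_of_sub_mem hn hmem] at h ⊢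
  rw [map_add, map_mul] at h ⊢
  rw [mul_add, ← mul_assoc, phi_xvar, ← mul_assoc, ← pow_succ',
    eps1_pow_eq_zero (m := n - 1 + 1) hn (by omega), zero_mul, zero_mul, add_zero] at h
  obtain ⟨r, hr⟩ := exists_top_mul hn (n - 1) (by omega) c fun d hd =>
    shift_coeff_zero hn 1 (by rwa [pow_one]) d (by omega)
  refine ⟨xvar n * r + evar n 1 ^ (n - 1) * evar n 2 * comb c', ?_⟩
  rw [hr, add_mul, mul_right_comm (phi n (xvar n)), phi_xvar_mul_eps2 hn, map_add]
  simp only [map_mul, map_pow, phi_xvar, phi_evar1 hn]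
  ring

variable (τ : P n →ₐ[ZMod 2] P n)

lemma add_tau (hn : 2 ≤ n) (hτ1 : τ (eps n 1) = eps n 1)
    (hτ : ∀ j : ℕ, 2 ≤ j → j ≤ numVars n → τ (eps n j) = eps n j + eps n 1 ^ (2 * j - 3))
    (a b : FreeE n) :
    (phi n a + phi n b * eps n 2) + τ (phi n a + phi n b * eps n 2) = eps n 1 * phi n b := by
  have h2 : τ (eps n 2) = eps n 2 + eps n 1 := by simpa using hτ 2 le_rfl (two_le_numVars hn)
  rw [map_add, map_mul, tau_phi τ hn hτ1 hτ, tau_phi τ hn hτ1 hτ, h2]
  linear_combination add_self (phi n a + phi n b * eps n 2)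

lemma fixed_iff (hn : 2 ≤ n) (hτ1 : τ (eps n 1) = eps n 1)
    (hτ : ∀ j : ℕ, 2 ≤ j → j ≤ numVars n → τ (eps n j) = eps n j + eps n 1 ^ (2 * j - 3))
    (z : P n) : τ z = z ↔ z ∈ Set.range (phi n) := by
  refine ⟨fun hz => ?_, fun ⟨q, hq⟩ => hq ▸ tau_phi τ hn hτ1 hτ q⟩
  obtain ⟨a, b, rfl⟩ := exists_decomp hn z
  have h := add_tau τ hn hτ1 hτ a b
  rw [hz, add_self] at h
  obtain ⟨q, hq⟩ := mul_eps2_mem_range hn h.symm
  exact ⟨a + q, by rw [map_add, hq]⟩

/-- Membership of `φ q` in a multiple of the fixed algebra. -/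
lemma exists_fixed_mul_iff (hn : 2 ≤ n) (hτ1 : τ (eps n 1) = eps n 1)
    (hτ : ∀ j : ℕ, 2 ≤ j → j ≤ numVars n → τ (eps n j) = eps n j + eps n 1 ^ (2 * j - 3))
    (m : ℕ) (q : FreeE n) :
    (∃ w, τ w = w ∧ phi n q = eps n 1 ^ m * w) ↔
      q ∈ presIdeal n ⊔ Ideal.span {evar n 1 ^ m} := by
  constructor
  · rintro ⟨w, hw, h⟩
    obtain ⟨r, rfl⟩ := (fixed_iff τ hn hτ1 hτ w).mp hw
    rw [← phi_evar1 hn, ← map_pow, ← map_mul, ← sub_eq_zero, ← map_sub] at h
    have h' : q - evar n 1 ^ m * r ∈ presIdeal n := ker_phi hn ▸ h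
    have := add_mem (Submodule.mem_sup_left h' : _ ∈ presIdeal n ⊔ Ideal.span {evar n 1 ^ m})
      (Submodule.mem_sup_right (Ideal.mul_mem_right r _ (Ideal.mem_span_singleton_self _)))
    simpa using this
  · intro h
    obtain ⟨a, ha, b, hb, rfl⟩ := Submodule.mem_sup.mp h
    obtain ⟨r, rfl⟩ := Ideal.mem_span_singleton'.mp hb
    refine ⟨phi n r, tau_phi τ hn hτ1 hτ r, ?_⟩
    rw [map_add, show phi n a = 0 from presIdeal_le_ker hn ha, zero_add, map_mul, map_pow,
      phi_evar1 hn, mul_comm]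

lemma exists_eq_pow_mul (hn : 2 ≤ n) (hτ1 : τ (eps n 1) = eps n 1)
    (hτ : ∀ j : ℕ, 2 ≤ j → j ≤ numVars n → τ (eps n j) = eps n j + eps n 1 ^ (2 * j - 3))
    (m : ℕ) (hm : 1 ≤ m) (y : P n) (hy : y + τ y ∈ Ideal.span {eps n 1 ^ m}) :
    ∃ z, τ z = z ∧ y + τ y = eps n 1 ^ m * z := by
  obtain ⟨a, b, rfl⟩ := exists_decomp hn y
  rw [add_tau τ hn hτ1 hτ] at hy ⊢
  obtain ⟨z, hz⟩ := Ideal.mem_span_singleton'.mp hy
  obtain ⟨a', c, rfl⟩ := exists_decomp hn z
  refine ⟨phi n a', tau_phi τ hn hτ1 hτ a', ?_⟩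
  -- multiples of `ε₁` of elements of the range lie in the normal span
  have hM : ∀ k, 1 ≤ k → ∀ q, eps n 1 ^ k * phi n q ∈ Mp n := fun k hk q => by
    obtain ⟨d, d', -, e⟩ := phi_eq hn q
    rw [e, mul_add, ← mul_assoc, ← mul_assoc, ← pow_add,
      eps1_pow_eq_zero (m := k + (n - 1)) hn (by omega), zero_mul, zero_mul, add_zero]
    exact pow_mul_mem_Mp hn _ (phi_comb_mem d)
  have hb := hM 1 le_rfl b
  rw [pow_one] at hb
  obtain ⟨h1, -⟩ := disjoint_Mp hn (sub_mem hb (hM m hm a')) (neg_mem (hM m hm c))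
    (by linear_combination -hz)
  exact sub_eq_zero.mp h1

lemma range_add_tau (hn : 2 ≤ n) (hτ1 : τ (eps n 1) = eps n 1)
    (hτ : ∀ j : ℕ, 2 ≤ j → j ≤ numVars n → τ (eps n j) = eps n j + eps n 1 ^ (2 * j - 3)) :
    Set.range (fun y : P n => y + τ y) = (fun z : P n => eps n 1 * z) '' {z | τ z = z} := by
  ext w
  constructor
  · rintro ⟨y, rfl⟩
    obtain ⟨a, b, rfl⟩ := exists_decomp hn y
    exact ⟨phi n b, tau_phi τ hn hτ1 hτ b, (add_tau τ hn hτ1 hτ a b).symm⟩
  · rintro ⟨z, hz, rfl⟩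
    obtain ⟨b, rfl⟩ := (fixed_iff τ hn hτ1 hτ z).mp hz
    refine ⟨phi n 0 + phi n b * eps n 2, add_tau τ hn hτ1 hτ 0 b⟩

lemma range_phi (hn : 2 ≤ n) (hτ1 : τ (eps n 1) = eps n 1)
    (hτ : ∀ j : ℕ, 2 ≤ j → j ≤ numVars n → τ (eps n j) = eps n j + eps n 1 ^ (2 * j - 3)) :
    (phi n).range = AlgHom.equalizer τ (AlgHom.id (ZMod 2) (P n)) :=
  SetLike.ext fun z => (fixed_iff τ hn hτ1 hτ z).symm

end Groth.Agent.H98QsPn
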