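import Groth.Agent.H98QsPn.Basic

set_option autoImplicit false
set_option maxHeartbeats 400000

/-!
# Normal forms modulo the relations
-/

open MvPolynomial

namespace Groth.Agent.H98QsPn

open QsChow

variable {n : ℕ}

/-- The exponent bounds for normal monomials. -/
def nb (n : ℕ) (i : Fin (numVars n)) : ℕ :=
  if i.val = 0 then n else if i.val = 1 then 2 ^ (klog n 2 - 1) else 2 ^ klog n (i.val + 1)

lemma nb_pos (hn : 2 ≤ n) (i : Fin (numVars n)) : 0 < nb n i := by
  unfold nb
  split_ifs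
  · omega
  · positivity
  · positivity

/-- The monomial in the variables `e`. -/
noncomputable def mon (d : Fin (numVars n) → ℕ) : FreeE n := ∏ i, X (some i) ^ d i

@[simp] lemma mon_zero : mon (0 : Fin (numVars n) → ℕ) = 1 := by simp [mon]

lemma mon_add (d e : Fin (numVars n) → ℕ) : mon (d + e) = mon d * mon e := by
  simp [mon, Pi.add_apply, pow_add, Finset.prod_mul_distrib]

lemma mon_update (d : Fin (numVars n) → ℕ) (i : Fin (numVars n)) :
    mon d = X (some i) ^ d i * mon (Function.update d i 0) := by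
  unfold mon
  rw [← Finset.mul_prod_erase _ _ (Finset.mem_univ i),
    ← Finset.mul_prod_erase _ (fun j => X (some j) ^ Function.update d i 0 j) (Finset.mem_univ i)]
  simp only [Function.update_self, pow_zero, one_mul]
  congr 1
  refine Finset.prod_congr rfl fun j hj => ?_
  rw [Function.update_of_ne (Finset.ne_of_mem_erase hj)]

/-- Normal monomials in the first `t` variables. -/
def Box (n t : ℕ) : Set (Fin (numVars n) → ℕ) :=
  {d | (∀ i, d i < nb n i) ∧ ∀ i : Fin (numVars n), t ≤ i.val → d i = 0}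

/-- The combinations of normal monomials in the first `t` variables, modulo the relations. -/
noncomputable def U (n t : ℕ) : Submodule (ZMod 2) (FreeE n) :=
  Submodule.span (ZMod 2) (mon '' Box n t ∪ (fun d => xvar n * mon d) '' Box n t) ⊔
    (presIdeal n).restrictScalars (ZMod 2)

lemma presIdeal_le_U {t : ℕ} {q : FreeE n} (h : q ∈ presIdeal n) : q ∈ U n t :=
  Submodule.mem_sup_right h

lemma mon_mem_U {t : ℕ} {d : Fin (numVars n) → ℕ} (h : d ∈ Box n t) : mon d ∈ U n t :=
  Submodule.mem_sup_left (Submodule.subset_span (Or.inl ⟨d, h, rfl⟩))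

lemma xmon_mem_U {t : ℕ} {d : Fin (numVars n) → ℕ} (h : d ∈ Box n t) : xvar n * mon d ∈ U n t :=
  Submodule.mem_sup_left (Submodule.subset_span (Or.inr ⟨d, h, rfl⟩))

lemma mul_mem_of_gens {t t' : ℕ} (p : FreeE n)
    (h1 : ∀ d ∈ Box n t, p * mon d ∈ U n t')
    (h2 : ∀ d ∈ Box n t, p * (xvar n * mon d) ∈ U n t') {v : FreeE n} (hv : v ∈ U n t) :
    p * v ∈ U n t' := by
  have : U n t ≤ (U n t').comap (LinearMap.mulLeft (ZMod 2) p) := by
    refine sup_le (Submodule.span_le.mpr ?_) fun q hq => presIdeal_le_U (Ideal.mul_mem_left _ _ hq)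
    rintro _ (⟨d, hd, rfl⟩ | ⟨d, hd, rfl⟩)
    · exact h1 d hd
    · exact h2 d hd
  exact this hv

/-- The multipliers preserving `U n t`. -/
noncomputable def mults (n t : ℕ) : Subalgebra (ZMod 2) (FreeE n) where
  carrier := {p | ∀ v ∈ U n t, p * v ∈ U n t}
  mul_mem' := fun {a b} ha hb v hv => by rw [mul_assoc]; exact ha _ (hb v hv)
  one_mem' := fun v hv => by rwa [one_mul]
  add_mem' := fun {a b} ha hb v hv => by rw [add_mul]; exact add_mem (ha v hv) (hb v hv)
  zero_mem' := fun v _ => by rw [zero_mul]; exact zero_mem _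
  algebraMap_mem' := fun r v hv => by
    rw [← Algebra.smul_def]; exact Submodule.smul_mem _ r hv

lemma mem_mults_iff {t : ℕ} {p : FreeE n} : p ∈ mults n t ↔ ∀ v ∈ U n t, p * v ∈ U n t := Iff.rfl

/-- Closure at stage `t`. -/
def Closed (n t : ℕ) : Prop :=
  xvar n ∈ mults n t ∧ ∀ i : Fin (numVars n), i.val < t → X (some i) ∈ mults n t

lemma Closed.evar_mem {t j : ℕ} (h : Closed n t) (hj : j ≤ t) : evar n j ∈ mults n t := by
  unfold evar
  split_ifs with hc
  · exact h.2 _ (show j - 1 < t by omega)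
  · exact zero_mem _

lemma Closed.sPoly_mem {t j : ℕ} (h : Closed n t) (ht : 2 ≤ t) : sPoly n j ∈ mults n t :=
  sum_mem fun _ _ => mul_mem (pow_mem (h.evar_mem (by omega)) _) (pow_mem (h.evar_mem ht) _)

lemma Box.mono {t t' : ℕ} (h : t ≤ t') : Box n t ⊆ Box n t' :=
  fun _ hd => ⟨hd.1, fun i hi => hd.2 i (h.trans hi)⟩

lemma U_mono {t t' : ℕ} (h : t ≤ t') : U n t ≤ U n t' :=
  sup_le_sup_right (Submodule.span_mono (Set.union_subset_union
    (Set.image_mono (Box.mono h)) (Set.image_mono (Box.mono h)))) _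

lemma hrel_mem (j : Fin (numVars n)) : hrel n (j.val + 1) ∈ presIdeal n :=
  Ideal.subset_span (Or.inr ⟨j, rfl⟩)

lemma pow_mul_mem {t : ℕ} (ht : t < numVars n) {c : ℕ} (hc : c < nb n ⟨t, ht⟩) {v : FreeE n}
    (hv : v ∈ U n t) : X (some ⟨t, ht⟩) ^ c * v ∈ U n (t + 1) := by
  have hupd : ∀ d ∈ Box n t, Function.update d ⟨t, ht⟩ c ∈ Box n (t + 1) ∧
      mon (Function.update d ⟨t, ht⟩ c) = X (some ⟨t, ht⟩) ^ c * mon d := by
    intro d hd
    refine ⟨⟨fun i => ?_, fun i hi => ?_⟩, ?_⟩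
    · by_cases hi : i = ⟨t, ht⟩
      · subst hi; rw [Function.update_self]; exact hc
      · rw [Function.update_of_ne hi]; exact hd.1 i
    · have hne : i ≠ ⟨t, ht⟩ := fun h => by subst h; simp at hi
      rw [Function.update_of_ne hne]; exact hd.2 i (by omega)
    · rw [mon_update _ (⟨t, ht⟩ : Fin (numVars n)), Function.update_self, Function.update_idem]
      congr 2
      exact Function.update_eq_self_iff.mpr (hd.2 ⟨t, ht⟩ le_rfl).symm
  refine mul_mem_of_gens _ (fun d hd => ?_) (fun d hd => ?_) hv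
  · rw [← (hupd d hd).2]; exact mon_mem_U (hupd d hd).1
  · rw [mul_left_comm, ← (hupd d hd).2]; exact xmon_mem_U (hupd d hd).1

lemma pow_nb_mul_mem (hn : 2 ≤ n) {t : ℕ} (ht : t < numVars n) (hcl : Closed n t) {v : FreeE n}
    (hv : v ∈ U n t) : X (some ⟨t, ht⟩) ^ nb n ⟨t, ht⟩ * v ∈ U n (t + 1) := by
  have hX : evar n (t + 1) = X (some ⟨t, ht⟩) := evar_succ ⟨t, ht⟩
  have hI : hrel n (t + 1) * v ∈ U n (t + 1) :=
    presIdeal_le_U (Ideal.mul_mem_right _ _ (hrel_mem ⟨t, ht⟩))
  rcases lt_or_ge t 2 with h2 | h2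
  · rcases (show t = 0 ∨ t = 1 by omega) with rfl | rfl
    · refine presIdeal_le_U (Ideal.mul_mem_right _ _ ?_)
      have hnb : nb n ⟨0, ht⟩ = n := if_pos rfl
      rw [← hX, hnb]
      exact Ideal.subset_span (Or.inl (Set.mem_insert _ _))
    · have hnb : nb n ⟨1, ht⟩ = 2 ^ (klog n 2 - 1) :=
        (if_neg Nat.one_ne_zero).trans (if_pos rfl)
      obtain ⟨k, hk⟩ : ∃ k, klog n 2 = k + 1 :=
        ⟨klog n 2 - 1, by have := (klog_spec hn le_rfl (two_le_numVars hn)).2.2; omega⟩
      have hsplit : hrel n 2 = evar n 1 ^ (2 ^ klog n 2 - n) * xvar n +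
          (∑ s ∈ Finset.range k, evar n 1 ^ (2 ^ klog n 2 - 2 ^ (s + 1)) * evar n 2 ^ 2 ^ s) +
            X (some ⟨1, ht⟩) ^ nb n ⟨1, ht⟩ := by
        rw [hrel, if_pos rfl, sPoly, hk, Finset.sum_range_succ, hnb, hk, Nat.add_sub_cancel,
          Nat.sub_self, pow_zero, one_mul, hX, add_assoc]
      rw [show 1 + 1 = 2 from rfl, hsplit] at hI
      rw [add_mul] at hI
      refine (Submodule.add_mem_iff_right _ ?_).mp hI
      rw [add_mul, Finset.sum_mul]
      refine add_mem ?_ (Submodule.sum_mem _ fun s hs => ?_)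
      · exact U_mono (Nat.le_succ 1) (mem_mults_iff.mp
          (mul_mem (pow_mem (hcl.evar_mem le_rfl) _) hcl.1) v hv)
      · rw [mul_comm (evar n 1 ^ _), mul_assoc, hX]
        refine pow_mul_mem ht ?_ (mem_mults_iff.mp (pow_mem (hcl.evar_mem le_rfl) _) v hv)
        rw [hnb, hk, Nat.add_sub_cancel]
        exact Nat.pow_lt_pow_right (by norm_num) (Finset.mem_range.mp hs)
  · have hnb : nb n ⟨t, ht⟩ = 2 ^ klog n (t + 1) := by
      simp only [nb]; rw [if_neg (by omega), if_neg (by omega)]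
    have hsplit : hrel n (t + 1) = (evar n 1 ^ ((2 * (t + 1) - 3) * 2 ^ klog n (t + 1) - n) * xvar n +
        evar n 1 ^ ((2 * (t + 1) - 4) * 2 ^ klog n (t + 1)) * sPoly n (t + 1)) +
          X (some ⟨t, ht⟩) ^ nb n ⟨t, ht⟩ := by
      rw [hrel, if_neg (by omega), if_pos ⟨by omega, by omega⟩, hX, hnb]
      ring
    rw [hsplit, add_mul] at hI
    refine (Submodule.add_mem_iff_right _ ?_).mp hI
    exact U_mono (Nat.le_succ t) (mem_mults_iff.mp
      (add_mem (mul_mem (pow_mem (hcl.evar_mem (by omega)) _) hcl.1)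
        (mul_mem (pow_mem (hcl.evar_mem (by omega)) _) (hcl.sPoly_mem h2))) v hv)

lemma xx_mem (v : FreeE n) : xvar n * (xvar n * v) ∈ presIdeal n := by
  rw [← mul_assoc, ← pow_two]
  exact Ideal.mul_mem_right _ _ (Ideal.subset_span (Or.inl (by simp)))

lemma closed_succ (hn : 2 ≤ n) {t : ℕ} (ht : t < numVars n) (hcl : Closed n t) :
    Closed n (t + 1) := by
  let d' : (Fin (numVars n) → ℕ) → Fin (numVars n) → ℕ := fun d => Function.update d ⟨t, ht⟩ 0
  have hd' : ∀ d ∈ Box n (t + 1), d' d ∈ Box n t := by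
    intro d hd
    constructor <;> intro i
    · by_cases hi : i = ⟨t, ht⟩
      · subst hi; simp only [d', Function.update_self]; exact nb_pos hn _
      · simp only [d', Function.update_of_ne hi]; exact hd.1 i
    · intro hti
      by_cases hi : i = ⟨t, ht⟩
      · subst hi; simp [d']
      · simp only [d', Function.update_of_ne hi]
        exact hd.2 i (Nat.succ_le_of_lt (lt_of_le_of_ne hti fun h => hi (Fin.ext h.symm)))
  -- every generator is a power of the new variable times an element of the previous stage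
  have hgen : ∀ p : FreeE n,
      (∀ c, c < nb n ⟨t, ht⟩ → ∀ v ∈ U n t, p * (X (some ⟨t, ht⟩) ^ c * v) ∈ U n (t + 1)) →
      p ∈ mults n (t + 1) := by
    intro p hp v hv
    refine mul_mem_of_gens p (fun d hd => ?_) (fun d hd => ?_) hv
    · rw [mon_update d ⟨t, ht⟩]
      exact hp _ (hd.1 _) _ (mon_mem_U (hd' d hd))
    · rw [mon_update d ⟨t, ht⟩, mul_left_comm (xvar n)]
      exact hp _ (hd.1 _) _ (xmon_mem_U (hd' d hd))
  refine ⟨hgen _ fun c hc v hv => ?_, fun i hi => hgen _ fun c hc v hv => ?_⟩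
  · rw [mul_left_comm]
    exact pow_mul_mem ht hc (mem_mults_iff.mp hcl.1 v hv)
  · rcases Nat.lt_succ_iff_lt_or_eq.mp hi with h | h
    · rw [mul_left_comm]
      exact pow_mul_mem ht hc (mem_mults_iff.mp (hcl.2 i h) v hv)
    · obtain rfl : i = ⟨t, ht⟩ := Fin.ext h
      rw [← mul_assoc, ← pow_succ']
      rcases (Nat.succ_le_of_lt hc).lt_or_eq with h' | h'
      · exact pow_mul_mem ht h' hv
      · rw [show c + 1 = _ from h']; exact pow_nb_mul_mem hn ht hcl hv

lemma closed_all (hn : 2 ≤ n) : ∀ t, t ≤ numVars n → Closed n t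
  | 0, _ => by
    refine ⟨fun v hv => ?_, fun i hi => absurd hi (Nat.not_lt_zero _)⟩
    exact mul_mem_of_gens _ (fun d hd => xmon_mem_U hd) (fun d _ => presIdeal_le_U (xx_mem _)) hv
  | t + 1, h => closed_succ hn h (closed_all hn t (Nat.le_of_succ_le h))

lemma U_eq_top (hn : 2 ≤ n) : U n (numVars n) = ⊤ := by
  have hcl := closed_all hn _ le_rfl
  have h1 : (1 : FreeE n) ∈ U n (numVars n) := by
    rw [← mon_zero]
    exact mon_mem_U ⟨fun i => nb_pos hn i, fun i _ => rfl⟩
  refine Submodule.eq_top_iff'.mpr fun q => ?_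
  have hq : q ∈ mults n (numVars n) := by
    induction q using MvPolynomial.induction_on with
    | C a => exact Subalgebra.algebraMap_mem _ a
    | add p q hp hq => exact add_mem hp hq
    | mul_X p o hp =>
      refine mul_mem hp ?_
      rcases o with _ | i
      · exact hcl.1
      · exact hcl.2 i i.2
  simpa using hq 1 h1

/-- The index set of normal monomials. -/
abbrev Dn (n : ℕ) : Type := ∀ i : Fin (numVars n), Fin (nb n i)

/-- The normal monomial with given exponents. -/
noncomputable def M (d : Dn n) : FreeE n := mon fun i => (d i).val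

/-- The combination with given coefficients. -/
noncomputable def comb (c : Dn n → ZMod 2) : FreeE n := ∑ d, c d • M d

lemma exists_normal (hn : 2 ≤ n) (q : FreeE n) :
    ∃ c c' : Dn n → ZMod 2, q - (comb c + xvar n * comb c') ∈ presIdeal n := by
  classical
  let L : (Dn n → ZMod 2) →ₗ[ZMod 2] FreeE n := Fintype.linearCombination (ZMod 2) M
  have hL : ∀ c, L c = comb c := fun c => Fintype.linearCombination_apply (ZMod 2) M c
  have hle : U n (numVars n) ≤ LinearMap.range L ⊔
      (LinearMap.range L).map (LinearMap.mulLeft (ZMod 2) (xvar n)) ⊔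
        (presIdeal n).restrictScalars (ZMod 2) := by
    refine sup_le_sup_right (Submodule.span_le.mpr ?_) _
    rintro _ (⟨d, hd, rfl⟩ | ⟨d, hd, rfl⟩)
    · refine Submodule.mem_sup_left ⟨Pi.single (fun i => ⟨d i, hd.1 i⟩) 1, ?_⟩
      simp [L, M]
    · refine Submodule.mem_sup_right ⟨mon d, ⟨Pi.single (fun i => ⟨d i, hd.1 i⟩) 1, ?_⟩, rfl⟩
      simp [L, M]
  rw [U_eq_top hn] at hle
  obtain ⟨y, hy, r, hr, e⟩ := Submodule.mem_sup.mp (hle (Submodule.mem_top (x := q)))
  obtain ⟨a, ⟨c, rfl⟩, b, hb, rfl⟩ := Submodule.mem_sup.mp hy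
  obtain ⟨_, ⟨c', rfl⟩, rfl⟩ := hb
  refine ⟨c, c', ?_⟩
  rw [← e, ← hL, ← hL]
  simpa using hr

end Groth.Agent.H98QsPn
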