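import Groth.Agent.H98QsPn.Indep
import Groth.Prelude.Def_W4c4chowquasisplitPn2

set_option autoImplicit false
set_option maxHeartbeats 400000

/-!
# The fixed subalgebra modulo powers of the first variable
-/

open MvPolynomial

namespace Groth.Agent.H98QsPn

open QsChow

variable {n : ℕ}

/-- The relations together with a power of the first variable. -/
noncomputable def Im (n m : ℕ) : Ideal (FreeE n) := presIdeal n ⊔ Ideal.span {evar n 1 ^ m}

lemma pres_mem {m : ℕ} {q : FreeE n} (h : q ∈ presIdeal n) : q ∈ Im n m := Submodule.mem_sup_left h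

lemma pow_mem_Im {m c : ℕ} (h : m ≤ c) (q : FreeE n) : evar n 1 ^ c * q ∈ Im n m :=
  Submodule.mem_sup_right (Ideal.mem_span_singleton.mpr (dvd_mul_of_dvd_left (pow_dvd_pow _ h) q))

lemma e1x_mem {m c : ℕ} (h : 1 ≤ c) : evar n 1 ^ c * xvar n ∈ Im n m := by
  refine pres_mem ?_
  rw [← Nat.sub_add_cancel h, pow_succ, mul_assoc]
  exact Ideal.mul_mem_left _ _ (Ideal.subset_span (Or.inl (by simp)))

lemma add_self_E (a : FreeE n) : a + a = 0 := CharTwo.add_self_eq_zero a

/-- The exponent of the leading term of the `j`-th relation. -/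
def kmain (n j : ℕ) : ℕ := if j = 2 then klog n 2 - 1 else klog n j

/-- The exponent of the first variable in front of `x`. -/
def cexp (n j : ℕ) : ℕ := (2 * j - 3) * 2 ^ klog n j - n

/-- The tail of the `j`-th relation. -/
noncomputable def rest (n j : ℕ) : FreeE n :=
  if j = 2 then
    ∑ t ∈ Finset.range (klog n 2 - 1), evar n 1 ^ (2 ^ klog n 2 - 2 ^ (t + 1)) * evar n 2 ^ 2 ^ t
  else evar n 1 ^ ((2 * j - 4) * 2 ^ klog n j) * sPoly n j

lemma hrel_split (hn : 2 ≤ n) {j : ℕ} (hj : 2 ≤ j) (hjs : j ≤ numVars n) :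
    hrel n j = evar n j ^ 2 ^ kmain n j + evar n 1 ^ cexp n j * xvar n + rest n j := by
  rcases hj.eq_or_lt with rfl | hj
  · obtain ⟨k, hk⟩ : ∃ k, klog n 2 = k + 1 :=
      ⟨klog n 2 - 1, by have := (klog_spec hn le_rfl hjs).2.2; omega⟩
    rw [hrel, if_pos rfl, kmain, if_pos rfl, rest, if_pos rfl, sPoly, cexp, hk,
      Finset.sum_range_succ, Nat.add_sub_cancel, Nat.sub_self, pow_zero, one_mul,
      show 2 * 2 - 3 = 1 from rfl, one_mul]
    ring
  · rw [hrel, if_neg (by omega), if_pos ⟨hj, hjs⟩, kmain, if_neg (by omega), rest, if_neg (by omega),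
      cexp]

/-- The bound making the tail a multiple of `e₁^m`. -/
def RestBound (n j m : ℕ) : Prop :=
  if j = 2 then ∀ t, t < klog n 2 - 1 → m ≤ 2 ^ klog n 2 - 2 ^ (t + 1)
  else m ≤ (2 * j - 4) * 2 ^ klog n j

lemma rest_mem {j m : ℕ} (h : RestBound n j m) : rest n j ∈ Ideal.span {evar n 1 ^ m} := by
  unfold rest
  unfold RestBound at h
  split_ifs at h ⊢ with hj
  · exact Submodule.sum_mem _ fun t ht => Ideal.mem_span_singleton.mpr
      (dvd_mul_of_dvd_left (pow_dvd_pow _ (h t (Finset.mem_range.mp ht))) _)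
  · exact Ideal.mem_span_singleton.mpr (dvd_mul_of_dvd_left (pow_dvd_pow _ h) _)

lemma kprime_eq (hn : 2 ≤ n) {j : ℕ} (hj : 2 ≤ j) (hjs : j ≤ numVars n)
    (hne : (2 * j - 3) * 2 ^ klog n j ≠ n) : kprime n j = kmain n j ∧ 1 ≤ cexp n j := by
  obtain ⟨h1, h2, h3⟩ := klog_spec hn hj hjs
  have hle := le_mul_two_pow hn hj hjs
  refine ⟨?_, by unfold cexp; omega⟩
  have h4 : (2 * j - 3) * 2 ^ (klog n j + 1) = 2 * ((2 * j - 3) * 2 ^ klog n j) := by
    rw [pow_succ]; ring
  rcases hj.eq_or_lt with rfl | hj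
  · rw [kprime, if_neg (by omega), if_pos rfl, kmain, if_pos rfl]
    simp only [show 2 * 2 - 3 = 1 from rfl, one_mul] at h1 h2 h4 hne hle
    have h5 : 2 ^ klog n 2 = 2 ^ (klog n 2 - 1) * 2 := by rw [← pow_succ, Nat.sub_add_cancel h3]
    refine Nat.log_eq_of_pow_le_of_lt_pow (by omega) ?_
    rw [Nat.sub_add_cancel h3]; omega
  · rw [kprime, if_neg (by omega), if_neg (by omega), kmain, if_neg (by omega)]
    refine Nat.log_eq_of_pow_le_of_lt_pow ?_ ?_
    · rw [Nat.le_div_iff_mul_le (by omega), mul_comm]; omega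
    · rw [Nat.div_lt_iff_lt_mul (by omega), mul_comm _ (2 * j - 3)]; omega

/-- The map adjoining no variable. -/
noncomputable def incl (n : ℕ) : FreeP n →ₐ[ZMod 2] FreeE n := rename some

/-- The retraction sending `x` to a given polynomial. -/
noncomputable def retr (ξ : FreeP n) : FreeE n →ₐ[ZMod 2] FreeP n :=
  aeval fun o => o.elim ξ X

lemma incl_evarE (j : ℕ) : incl n (evarE n j) = evar n j := by
  unfold evarE evar incl
  split_ifs <;> simp

lemma retr_evar (ξ : FreeP n) (j : ℕ) : retr ξ (evar n j) = evarE n j := by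
  unfold evarE evar retr
  split_ifs <;> simp

lemma retr_xvar (ξ : FreeP n) : retr ξ (xvar n) = ξ := by simp [retr, xvar]

lemma retr_incl (ξ q : FreeP n) : retr ξ (incl n q) = q := by
  rw [retr, incl, aeval_rename]
  exact aeval_X_left_apply q

lemma psi_eq (q : FreeP n) : psi n q = phi n (incl n q) := by
  rw [psi, phi, incl, aeval_rename]; rfl

lemma evarE_succ (i : Fin (numVars n)) : evarE n (i.val + 1) = X i := by
  rw [evarE, dif_pos ⟨Nat.succ_pos _, i.2⟩]
  rfl

lemma sub_incl_retr_mem {ξ : FreeP n} {I : Ideal (FreeE n)} (ha : xvar n - incl n ξ ∈ I)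
    (q : FreeE n) : q - incl n (retr ξ q) ∈ I := by
  induction q using MvPolynomial.induction_on with
  | C a => simp [retr, incl]
  | add p q hp hq => simpa [add_sub_add_comm] using add_mem hp hq
  | mul_X p o hp =>
    rcases o with _ | i
    · have : p * X none - incl n (retr ξ (p * X none)) =
          (p - incl n (retr ξ p)) * X none + incl n (retr ξ p) * (xvar n - incl n ξ) := by
        rw [map_mul, map_mul, show retr ξ (X none) = ξ from retr_xvar ξ, xvar]; ring
      rw [this]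
      exact add_mem (I.mul_mem_right _ hp) (I.mul_mem_left _ ha)
    · have : incl n (retr ξ (X (some i))) = X (some i) := by simp [retr, incl]
      rw [map_mul, map_mul, this, ← sub_mul]
      exact I.mul_mem_right _ hp

variable (τ : P n →ₐ[ZMod 2] P n)

/-- Presentations without `x`, from a retraction. -/
theorem presentation (hn : 2 ≤ n) (hτ1 : τ (eps n 1) = eps n 1)
    (hτ : ∀ j : ℕ, 2 ≤ j → j ≤ numVars n → τ (eps n j) = eps n j + eps n 1 ^ (2 * j - 3))
    (m : ℕ) (ξ : FreeP n) (E : Ideal (FreeP n)) (ha : xvar n - incl n ξ ∈ Im n m)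
    (hb : Im n m ≤ E.comap (retr ξ)) (hc : E ≤ (Im n m).comap (incl n)) :
    (∀ q : FreeP n, (∃ w, τ w = w ∧ psi n q = eps n 1 ^ m * w) ↔ q ∈ E) ∧
      ∀ z : P n, τ z = z → ∃ q : FreeP n, ∃ w, τ w = w ∧ z = psi n q + eps n 1 ^ m * w := by
  refine ⟨fun q => ?_, fun z hz => ?_⟩
  · rw [psi_eq, exists_fixed_mul_iff τ hn hτ1 hτ]
    exact ⟨fun h => retr_incl ξ q ▸ hb h, fun h => hc h⟩
  · obtain ⟨q, rfl⟩ := (fixed_iff τ hn hτ1 hτ z).mp hz
    obtain ⟨w, hw, hdiff⟩ := (exists_fixed_mul_iff τ hn hτ1 hτ m _).mpr (sub_incl_retr_mem ha q)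
    refine ⟨retr ξ q, w, hw, ?_⟩
    rw [psi_eq, ← hdiff, ← map_add, add_sub_cancel]

/-! ### The odd case -/

lemma hrel_one : hrel n 1 = 0 := by
  unfold hrel; rw [if_neg (by omega), if_neg (by omega)]

lemma kprime_one : kprime n 1 = twoExp n := if_pos rfl

lemma twoExp_of_odd (hodd : Odd n) : twoExp n = 0 :=
  padicValNat.eq_zero_of_not_dvd fun h => by
    obtain ⟨k, rfl⟩ := hodd; omega

lemma oddIdeal_eq (hn : 2 ≤ n) (hodd : Odd n) : oddIdeal n = Im n 1 := by
  have hgen : ∀ i : Fin (numVars n),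
      hrel n (i.val + 1) - evar n (i.val + 1) ^ 2 ^ kprime n (i.val + 1) ∈
        Ideal.span {evar n 1} := by
    intro i
    by_cases hi : i.val = 0
    · rw [hi, hrel_one, kprime_one, twoExp_of_odd hodd, pow_zero, pow_one, zero_sub]
      exact neg_mem (Ideal.mem_span_singleton_self _)
    · have hj : 2 ≤ i.val + 1 := by omega
      have hne : (2 * (i.val + 1) - 3) * 2 ^ klog n (i.val + 1) ≠ n := fun h => by
        have hk := (klog_spec hn hj i.2).2.2
        have : 2 ∣ n := h ▸ dvd_mul_of_dvd_right (dvd_pow_self 2 (by omega)) _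
        obtain ⟨k, rfl⟩ := hodd; omega
      obtain ⟨hk, hc⟩ := kprime_eq hn hj i.2 hne
      rw [hrel_split hn hj i.2, hk, add_assoc, add_sub_cancel_left]
      refine add_mem (Ideal.mul_mem_right _ _ (Ideal.pow_mem_of_mem _
        (Ideal.mem_span_singleton_self _) _ hc)) ?_
      rw [show Ideal.span {evar n 1} = Ideal.span {evar n 1 ^ 1} by rw [pow_one]]
      refine rest_mem ?_
      unfold RestBound
      split_ifs with h2
      · intro t ht
        have : 2 ^ (t + 1) < 2 ^ klog n 2 := Nat.pow_lt_pow_right (by norm_num) (by omega)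
        omega
      · exact Nat.mul_pos (by omega) (Nat.two_pow_pos _)
  refine le_antisymm ?_ ?_
  · refine Ideal.span_le.mpr ?_
    rintro q ((rfl | rfl) | ⟨i, rfl⟩)
    · simpa using pow_mem_Im (n := n) (le_refl 1) 1
    · exact pres_mem (Ideal.subset_span (Or.inl (by simp)))
    · have h1 : hrel n (i.val + 1) ∈ Im n 1 := pres_mem (hrel_mem i)
      have h2 : hrel n (i.val + 1) - evar n (i.val + 1) ^ 2 ^ kprime n (i.val + 1) ∈ Im n 1 :=
        Submodule.mem_sup_right (by rw [pow_one]; exact hgen i)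
      simpa using sub_mem h1 h2
  · have he : evar n 1 ∈ oddIdeal n := Ideal.subset_span (Or.inl (by simp))
    refine sup_le (Ideal.span_le.mpr ?_) ((Ideal.span_singleton_le_iff_mem _).mpr (by rw [pow_one]; exact he))
    rintro q ((rfl | rfl | rfl) | ⟨i, rfl⟩)
    · exact Ideal.pow_mem_of_mem _ he n (by omega)
    · exact Ideal.mul_mem_right _ _ he
    · exact Ideal.subset_span (Or.inl (by simp))
    · have h1 : evar n (i.val + 1) ^ 2 ^ kprime n (i.val + 1) ∈ oddIdeal n :=
        Ideal.subset_span (Or.inr ⟨i, rfl⟩)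
      have h2 := (Ideal.span_singleton_le_iff_mem _).mpr he (hgen i)
      simpa using add_mem h2 h1

/-! ### The even cases -/

section Even

variable (E : Ideal (FreeP n))

lemma le_comap_retr (hn : 2 ≤ n) (m : ℕ) (hm : m ≤ n) (ξ : FreeP n)
    (h1 : evarE n 1 ^ m ∈ E) (h2 : evarE n 1 * ξ ∈ E) (h3 : ξ ^ 2 ∈ E)
    (h4 : ∀ j, 2 ≤ j → j ≤ numVars n → RestBound n j m ∧
      evarE n j ^ 2 ^ kmain n j + evarE n 1 ^ cexp n j * ξ ∈ E) :
    Im n m ≤ E.comap (retr ξ) := by
  refine sup_le (Ideal.span_le.mpr ?_) ((Ideal.span_singleton_le_iff_mem _).mpr ?_)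
  · rintro q ((rfl | rfl | rfl) | ⟨i, rfl⟩) <;> show retr ξ _ ∈ E
    · rw [map_pow, retr_evar]
      exact E.mem_of_dvd (pow_dvd_pow _ hm) h1
    · rw [map_mul, retr_evar, retr_xvar]; exact h2
    · rw [map_pow, retr_xvar]; exact h3
    · beta_reduce
      by_cases hi : i.val = 0
      · rw [hi, hrel_one, map_zero]; exact zero_mem _
      · obtain ⟨hb, hg⟩ := h4 (i.val + 1) (by omega) i.2
        rw [hrel_split hn (by omega) i.2, map_add, map_add, map_mul, map_pow, map_pow, retr_evar,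
          retr_evar, retr_xvar]
        refine add_mem hg ?_
        obtain ⟨r, hr⟩ := Ideal.mem_span_singleton'.mp (rest_mem hb)
        rw [← hr, map_mul, map_pow, retr_evar]
        exact E.mul_mem_left _ h1
  · show retr ξ _ ∈ E
    rw [map_pow, retr_evar]; exact h1

/-- The leading powers lie in the ideal. -/
lemma main_mem (hn : 2 ≤ n) {m j : ℕ} (hj : 2 ≤ j) (hjs : j ≤ numVars n)
    (hne : (2 * j - 3) * 2 ^ klog n j ≠ n) (hb : RestBound n j m) :
    evar n j ^ 2 ^ kprime n j ∈ Im n m := by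
  obtain ⟨hk, hc⟩ := kprime_eq hn hj hjs hne
  obtain ⟨i, rfl⟩ : ∃ i, j = i + 1 := ⟨j - 1, by omega⟩
  have h1 : hrel n (i + 1) ∈ Im n m := pres_mem (hrel_mem ⟨i, by omega⟩)
  rw [hrel_split hn hj hjs] at h1
  rw [hk]
  simpa using sub_mem (sub_mem h1 (Submodule.mem_sup_right (rest_mem hb))) (e1x_mem hc)

end Even

lemma evenIdeal_gen {j : ℕ} (hj : 1 ≤ j) (hjs : j ≤ numVars n) :
    evarE n j ^ 2 ^ kprime n j ∈ evenIdeal n := by
  obtain ⟨i, rfl⟩ : ∃ i, j = i + 1 := ⟨j - 1, by omega⟩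
  exact Ideal.subset_span (Or.inr ⟨⟨i, by omega⟩, rfl⟩)

lemma powIdeal_gen {j : ℕ} (hj : 1 ≤ j) (hjs : j ≤ numVars n) :
    evarE n j ^ 2 ^ kprime n j ∈ powIdeal n := by
  obtain ⟨i, rfl⟩ : ∃ i, j = i + 1 := ⟨j - 1, by omega⟩
  exact Ideal.subset_span (Or.inr ⟨⟨i, by omega⟩, rfl⟩)

lemma add_self_P (a : FreeP n) : a + a = 0 := CharTwo.add_self_eq_zero a

theorem psi_presentation_even (hn : 2 ≤ n) (hτ1 : τ (eps n 1) = eps n 1)
    (hτ : ∀ j : ℕ, 2 ≤ j → j ≤ numVars n → τ (eps n j) = eps n j + eps n 1 ^ (2 * j - 3))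
    (ha : 1 ≤ twoExp n) (hne : n ≠ 2 ^ twoExp n) :
    (∀ q : FreeP n, (∃ w, τ w = w ∧ psi n q = eps n 1 ^ 2 ^ twoExp n * w) ↔ q ∈ evenIdeal n) ∧
      ∀ z : P n, τ z = z → ∃ q : FreeP n, ∃ w, τ w = w ∧
        z = psi n q + eps n 1 ^ 2 ^ twoExp n * w := by
  obtain ⟨c, hc⟩ : 2 ^ twoExp n ∣ n := pow_padicValNat_dvd
  have hodd : ¬ 2 ∣ c := fun ⟨d, hd⟩ => by
    refine pow_succ_padicValNat_not_dvd (p := 2) (n := n) (by omega) ⟨d, ?_⟩
    calc n = 2 ^ twoExp n * c := hc
      _ = _ := by rw [hd, pow_succ]; unfold twoExp; ring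
  set a := twoExp n with hadef
  clear_value a
  have hc3 : 3 ≤ c := by
    rcases (show c = 0 ∨ c = 1 ∨ c = 2 ∨ 3 ≤ c by omega) with rfl | rfl | rfl | h
    · simp at hc; omega
    · exact absurd (by simpa using hc) hne
    · exact absurd dvd_rfl hodd
    · exact h
  have hapos : 2 ≤ 2 ^ a := Nat.le_self_pow (by omega) 2
  let l := lIdx n
  have hl : l = (c + 3) / 2 := by
    show (n / 2 ^ twoExp n + 3) / 2 = _
    rw [← hadef, hc, Nat.mul_div_cancel_left _ (by omega)]
  have hl2 : 2 * l - 3 = c := by omega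
  have hcn : 2 * c ≤ n := by rw [hc]; exact Nat.mul_le_mul_right c hapos
  have hls : l ≤ numVars n := by unfold numVars; omega
  have hl3 : 3 ≤ l := by omega
  have hkl : klog n l = a := by
    obtain ⟨h1, h2, -⟩ := klog_spec hn (by omega : 2 ≤ l) hls
    rw [hl2] at h1 h2
    have e1 : 2 ^ klog n l < 2 ^ (a + 1) := by
      by_contra! h
      have := Nat.mul_le_mul_left c h
      rw [pow_succ, ← mul_assoc, mul_comm c, ← hc] at this
      omega
    have e2 : 2 ^ a < 2 ^ (klog n l + 1) := by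
      by_contra! h
      have := Nat.mul_le_mul_left c h
      rw [mul_comm c (2 ^ a), ← hc] at this
      omega
    have := (Nat.pow_lt_pow_iff_right (by norm_num)).mp e1
    have := (Nat.pow_lt_pow_iff_right (by norm_num)).mp e2
    omega
  have hle : (2 * l - 3) * 2 ^ klog n l = n := by rw [hl2, hkl, mul_comm, ← hc]
  have hkpl : kprime n l = a + 1 := by
    rw [kprime, if_neg (by omega), if_neg (by omega), hl2, hc,
      show 2 * (2 ^ a * c) = 2 ^ (a + 1) * c by ring, Nat.mul_div_cancel _ (by omega),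
      Nat.log_pow (by norm_num)]
  -- no other index has a leading coincidence
  have hother : ∀ j, 2 ≤ j → j ≤ numVars n → j ≠ l → (2 * j - 3) * 2 ^ klog n j ≠ n := by
    intro j hj hjs hjl h
    have hj' : ¬ 2 ∣ 2 * j - 3 := by omega
    have hh : (2 * j - 3) * 2 ^ klog n j = c * 2 ^ a := by rw [h, hc, mul_comm]
    rcases le_total (klog n j) a with hle' | hle'
    · obtain ⟨d, rfl⟩ := Nat.exists_eq_add_of_le hle'
      rw [pow_add, mul_comm (2 ^ klog n j), ← mul_assoc] at hh
      have := Nat.eq_of_mul_eq_mul_right (Nat.two_pow_pos _) hh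
      rcases d with _ | d
      · simp at this; omega
      · exact hj' ⟨c * 2 ^ d, by rw [this, pow_succ]; ring⟩
    · obtain ⟨d, hd⟩ := Nat.exists_eq_add_of_le hle'
      rw [hd, pow_add, mul_comm (2 ^ a), ← mul_assoc] at hh
      have := Nat.eq_of_mul_eq_mul_right (Nat.two_pow_pos _) hh
      rcases d with _ | d
      · simp at this; omega
      · exact hodd ⟨(2 * j - 3) * 2 ^ d, by rw [← this, pow_succ]; ring⟩
  have hbound : ∀ j, 2 ≤ j → j ≤ numVars n → RestBound n j (2 ^ a) := by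
    intro j hj hjs
    have hn3 : 3 * 2 ^ a ≤ n := by rw [hc, mul_comm 3]; exact Nat.mul_le_mul_left _ hc3
    have hb := le_mul_two_pow hn hj hjs
    unfold RestBound
    split_ifs with h2
    · subst h2
      simp only [show 2 * 2 - 3 = 1 from rfl, one_mul] at hb
      intro t ht
      have h5 : 2 ^ klog n 2 = 2 ^ (klog n 2 - 1) * 2 := by
        rw [← pow_succ, Nat.sub_add_cancel (by omega)]
      have h6 : a + 1 < klog n 2 :=
        (Nat.pow_lt_pow_iff_right (a := 2) (by norm_num)).mp (by rw [pow_succ]; omega)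
      have h7 : 2 ^ a ≤ 2 ^ (klog n 2 - 1) := Nat.pow_le_pow_right (by norm_num) (by omega)
      have h8 : 2 ^ (t + 1) ≤ 2 ^ (klog n 2 - 1) := Nat.pow_le_pow_right (by norm_num) (by omega)
      omega
    · obtain ⟨e, rfl⟩ : ∃ e, j = e + 3 := ⟨j - 3, by omega⟩
      rw [show 2 * (e + 3) - 4 = 2 * e + 2 by omega]
      rw [show 2 * (e + 3) - 3 = 2 * e + 3 by omega] at hb
      nlinarith
  let ξ : FreeP n := evarE n l ^ 2 ^ a
  have hk1 : evarE n 1 ^ 2 ^ a ∈ evenIdeal n := by
    have := evenIdeal_gen (n := n) le_rfl (by omega)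
    rwa [kprime_one, ← hadef] at this
  have he1ξ : evarE n 1 * ξ ∈ evenIdeal n := by
    refine Ideal.subset_span (Or.inl ?_)
    show _ = _
    rw [show kprime n (lIdx n) = a + 1 from hkpl, Nat.add_sub_cancel]
  have hξ2 : ξ ^ 2 = evarE n l ^ 2 ^ kprime n l := by rw [hkpl, ← pow_mul, ← pow_succ]
  have hA : xvar n - incl n ξ ∈ Im n (2 ^ a) := by
    obtain ⟨i, hi⟩ : ∃ i, l = i + 1 := ⟨l - 1, by omega⟩
    have h1 : hrel n l ∈ Im n (2 ^ a) := by rw [hi]; exact pres_mem (hrel_mem ⟨i, by omega⟩)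
    rw [hrel_split hn (by omega) hls, cexp, hle, Nat.sub_self, pow_zero, one_mul, kmain,
      if_neg (by omega), hkl] at h1
    have h2 := sub_mem h1 (Submodule.mem_sup_right (rest_mem (hbound l (by omega) hls)) :
      rest n l ∈ Im n (2 ^ a))
    convert h2 using 1
    rw [map_pow, incl_evarE]
    linear_combination -add_self_E (evar n l ^ 2 ^ a)
  refine presentation τ hn hτ1 hτ (2 ^ a) ξ _ hA ?_ ?_
  · refine le_comap_retr _ hn _ (by rw [hc]; exact Nat.le_mul_of_pos_right _ (by omega)) ξ hk1 he1ξ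
      (hξ2 ▸ evenIdeal_gen (by omega) hls) fun j hj hjs => ⟨hbound j hj hjs, ?_⟩
    by_cases hjl : j = l
    · subst hjl
      rw [cexp, hle, Nat.sub_self, pow_zero, one_mul, kmain, if_neg (by omega), hkl, add_self_P]
      exact zero_mem _
    · obtain ⟨hk, hce⟩ := kprime_eq hn hj hjs (hother j hj hjs hjl)
      refine add_mem (hk ▸ evenIdeal_gen (by omega) hjs) ?_
      rw [← Nat.sub_add_cancel hce, pow_succ, mul_assoc]
      exact Ideal.mul_mem_left _ _ he1ξ
  · refine Ideal.span_le.mpr ?_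
    rintro q (hq | ⟨i, rfl⟩) <;> show incl n _ ∈ Im n (2 ^ a)
    · rw [Set.mem_singleton_iff.mp hq, show kprime n (lIdx n) = a + 1 from hkpl, Nat.add_sub_cancel,
        map_mul, incl_evarE]
      have h1 : evar n 1 * xvar n ∈ Im n (2 ^ a) := by simpa using e1x_mem (n := n) (le_refl 1)
      simpa [mul_sub, ξ, l] using sub_mem h1 (Ideal.mul_mem_left _ (evar n 1) hA)
    · rw [map_pow, incl_evarE]
      by_cases hi : i.val = 0
      · rw [hi, kprime_one, ← hadef]
        simpa using pow_mem_Im (n := n) (le_refl (2 ^ a)) 1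
      · by_cases hil : i.val + 1 = l
        · rw [hil, hkpl, pow_succ, pow_mul, ← incl_evarE, ← map_pow]
          have h1 : xvar n ^ 2 ∈ Im n (2 ^ a) := pres_mem (Ideal.subset_span (Or.inl (by simp)))
          have h2 := sub_mem h1 (Ideal.mul_mem_right (xvar n + incl n ξ) _ hA)
          convert h2 using 1
          ring
        · exact main_mem hn (by omega) i.2 (hother _ (by omega) i.2 hil) (hbound _ (by omega) i.2)

theorem psi_presentation_two_pow (hn : 2 ≤ n) (hτ1 : τ (eps n 1) = eps n 1)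
    (hτ : ∀ j : ℕ, 2 ≤ j → j ≤ numVars n → τ (eps n j) = eps n j + eps n 1 ^ (2 * j - 3))
    (b : ℕ) (hb : 1 ≤ b) (hnb : n = 2 ^ b) :
    (psi n).range = AlgHom.equalizer τ (AlgHom.id (ZMod 2) (P n)) ∧
      RingHom.ker (psi n) = powIdeal n := by
  have ha : twoExp n = b := by subst hnb; exact padicValNat.prime_pow b
  have hk2 : klog n 2 = b := by
    obtain ⟨h1, h2, -⟩ := klog_spec hn le_rfl (two_le_numVars hn)
    simp only [show 2 * 2 - 3 = 1 from rfl, one_mul] at h1 h2
    have := (Nat.pow_lt_pow_iff_right (by norm_num)).mp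
      (show 2 ^ klog n 2 < 2 ^ (b + 1) by rw [pow_succ, ← hnb]; omega)
    have := (Nat.pow_lt_pow_iff_right (by norm_num)).mp
      (show 2 ^ b < 2 ^ (klog n 2 + 1) by rw [← hnb]; omega)
    omega
  have hkp2 : kprime n 2 = b := by
    rw [kprime, if_neg (by omega), if_pos rfl, hnb, Nat.log_pow (by norm_num)]
  have hother : ∀ j, 3 ≤ j → j ≤ numVars n → (2 * j - 3) * 2 ^ klog n j ≠ n := by
    intro j hj hjs h
    rw [hnb] at h
    obtain ⟨d, -, hd⟩ := (Nat.dvd_prime_pow Nat.prime_two).mp (h ▸ dvd_mul_right _ _ : 2 * j - 3 ∣ 2 ^ b)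
    rcases d with _ | d
    · simp at hd; omega
    · rw [pow_succ] at hd; omega
  have hbound : ∀ j, 3 ≤ j → j ≤ numVars n → RestBound n j n := by
    intro j hj hjs
    have hb' := le_mul_two_pow hn (by omega : 2 ≤ j) hjs
    have h1 := (klog_spec hn (by omega : 2 ≤ j) hjs).1
    have hkb : klog n j < b := by
      refine (Nat.pow_lt_pow_iff_right (a := 2) (by norm_num)).mp ?_
      have : 3 * 2 ^ klog n j ≤ (2 * j - 3) * 2 ^ klog n j := Nat.mul_le_mul_right _ (by omega)
      omega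
    unfold RestBound
    rw [if_neg (by omega)]
    have hlt : n < (2 * j - 3) * 2 ^ klog n j := lt_of_le_of_ne hb' (hother j hj hjs).symm
    have hsplit : n = 2 ^ (b - klog n j) * 2 ^ klog n j := by
      rw [← pow_add, Nat.sub_add_cancel hkb.le, hnb]
    calc n = _ := hsplit
      _ ≤ _ := Nat.mul_le_mul_right _ (by
        have := Nat.lt_of_mul_lt_mul_right (hsplit.symm.trans_lt hlt)
        omega)
  let ξ : FreeP n := ∑ t ∈ Finset.range (kprime n 2),
    evarE n 1 ^ (2 ^ kprime n 2 - 2 ^ (t + 1)) * evarE n 2 ^ 2 ^ t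
  have hincl : incl n ξ = sPoly n 2 := by
    simp only [ξ, map_sum, map_mul, map_pow, incl_evarE, sPoly, hkp2, hk2]
  have hh2 : hrel n 2 = xvar n + sPoly n 2 := by
    rw [hrel, if_pos rfl, hk2, ← hnb, Nat.sub_self, pow_zero, one_mul]
  have hA : xvar n - incl n ξ ∈ Im n n := by
    have h1 : hrel n (1 + 1) ∈ Im n n :=
      pres_mem (hrel_mem ⟨1, by have := two_le_numVars hn; omega⟩)
    rw [hh2] at h1
    convert h1 using 1
    rw [hincl]
    linear_combination -add_self_E (sPoly n 2)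
  have hk1 : evarE n 1 ^ n ∈ powIdeal n := by
    have := powIdeal_gen (n := n) le_rfl (by unfold numVars; omega)
    rwa [kprime_one, ha, ← hnb] at this
  have hsq : ξ ^ 2 - evarE n 2 ^ 2 ^ b ∈ Ideal.span {evarE n 1 ^ n} := by
    obtain ⟨k, hk⟩ : ∃ k, b = k + 1 := ⟨b - 1, by omega⟩
    simp only [ξ, hkp2, hk]
    rw [sum_pow_char 2, Finset.sum_range_succ, mul_pow, Nat.sub_self, pow_zero, one_pow, one_mul,
      ← pow_mul, ← pow_succ, add_sub_cancel_right]
    refine Submodule.sum_mem _ fun t ht => Ideal.mem_span_singleton.mpr ?_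
    rw [mul_pow, ← pow_mul]
    refine dvd_mul_of_dvd_left (pow_dvd_pow _ ?_) _
    have h8 : 2 ^ (t + 1) ≤ 2 ^ k := Nat.pow_le_pow_right (by norm_num)
      (by have := Finset.mem_range.mp ht; omega)
    rw [hnb, hk]; omega
  have h2n : evarE n 2 ^ 2 ^ b ∈ powIdeal n := by
    have := powIdeal_gen (n := n) (j := 2) (by omega) (two_le_numVars hn)
    rwa [hkp2] at this
  have he1ξ : evarE n 1 * ξ ∈ powIdeal n := Ideal.subset_span (Or.inl rfl)
  have hkpos : ∀ j, 3 ≤ j → j ≤ numVars n →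
      evarE n j ^ 2 ^ kmain n j + evarE n 1 ^ cexp n j * ξ ∈ powIdeal n := fun j hj hjs => by
    obtain ⟨hk, hce⟩ := kprime_eq hn (by omega) hjs (hother j hj hjs)
    refine add_mem (hk ▸ powIdeal_gen (by omega) hjs) ?_
    rw [← Nat.sub_add_cancel hce, pow_succ, mul_assoc]
    exact Ideal.mul_mem_left _ _ he1ξ
  have hb2 : Im n n ≤ (powIdeal n).comap (retr ξ) := by
    refine sup_le (Ideal.span_le.mpr ?_) ((Ideal.span_singleton_le_iff_mem _).mpr ?_)
    · rintro q ((rfl | rfl | rfl) | ⟨i, rfl⟩) <;> show retr ξ _ ∈ powIdeal n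
      · rw [map_pow, retr_evar]; exact hk1
      · rw [map_mul, retr_evar, retr_xvar]; exact he1ξ
      · rw [map_pow, retr_xvar]
        simpa using add_mem ((Ideal.span_singleton_le_iff_mem _).mpr hk1 hsq) h2n
      · beta_reduce
        rcases (show i.val = 0 ∨ i.val = 1 ∨ 3 ≤ i.val + 1 by omega) with hi | hi | hi
        · rw [hi, hrel_one, map_zero]; exact zero_mem _
        · rw [hi, hh2, map_add, retr_xvar, ← hincl, retr_incl, add_self_P]; exact zero_mem _
        · rw [hrel_split hn (by omega) i.2, map_add, map_add, map_mul, map_pow, map_pow, retr_evar,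
            retr_evar, retr_xvar]
          refine add_mem (hkpos _ hi i.2) ?_
          obtain ⟨r, hr⟩ := Ideal.mem_span_singleton'.mp (rest_mem (hbound _ hi i.2))
          rw [← hr, map_mul, map_pow, retr_evar]
          exact Ideal.mul_mem_left _ _ hk1
    · show retr ξ _ ∈ powIdeal n
      rw [map_pow, retr_evar]; exact hk1
  have hc : powIdeal n ≤ (Im n n).comap (incl n) := by
    refine Ideal.span_le.mpr ?_
    rintro q (hq | ⟨i, rfl⟩) <;> show incl n _ ∈ Im n n
    · rw [Set.mem_singleton_iff.mp hq, map_mul, incl_evarE, show incl n _ = incl n ξ from rfl]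
      have h1 : evar n 1 * xvar n ∈ Im n n := by simpa using e1x_mem (n := n) (le_refl 1)
      simpa [mul_sub] using sub_mem h1 (Ideal.mul_mem_left _ (evar n 1) hA)
    · beta_reduce
      rcases (show i.val = 0 ∨ i.val = 1 ∨ 3 ≤ i.val + 1 by omega) with hi | hi | hi
      · rw [map_pow, incl_evarE, hi, kprime_one, ha, ← hnb]
        simpa using pow_mem_Im (n := n) (le_refl n) 1
      · rw [hi, hkp2]
        have h1 : xvar n ^ 2 ∈ Im n n := pres_mem (Ideal.subset_span (Or.inl (by simp)))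
        have h2 : incl n ξ ^ 2 ∈ Im n n := by
          convert sub_mem h1 (Ideal.mul_mem_right (xvar n + incl n ξ) _ hA) using 1
          ring
        obtain ⟨r, hr⟩ := Ideal.mem_span_singleton'.mp hsq
        have h3 : incl n (ξ ^ 2 - evarE n 2 ^ 2 ^ b) ∈ Im n n := by
          rw [← hr, map_mul, map_pow (incl n) (evarE n 1), incl_evarE, mul_comm]
          exact pow_mem_Im le_rfl _
        rw [map_sub, map_pow (incl n) ξ] at h3
        simpa using sub_mem h2 h3
      · rw [map_pow, incl_evarE]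
        exact main_mem hn (by omega) i.2 (hother _ hi i.2) (hbound _ hi i.2)
  obtain ⟨H1, H2⟩ := presentation τ hn hτ1 hτ n ξ _ hA hb2 hc
  constructor
  · refine le_antisymm ?_ fun z hz => ?_
    · rintro _ ⟨q, rfl⟩
      show τ (psi n q) = psi n q
      rw [psi_eq]; exact tau_phi τ hn hτ1 hτ _
    · obtain ⟨q, w, -, e⟩ := H2 z hz
      exact ⟨q, by rw [e, eps1_pow_n hn, zero_mul, add_zero]; rfl⟩
  · ext q
    rw [← H1 q, RingHom.mem_ker, eps1_pow_n hn]
    exact ⟨fun h => ⟨0, map_zero τ, by rw [h, zero_mul]⟩, fun ⟨w, _, h⟩ => by rw [h, zero_mul]⟩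

end Groth.Agent.H98QsPn
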